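import Groth.Agent.Lib.Lead.NatPush.Leray
import Groth.Agent.Lib.Lead.LinLES.Basic

/-!
# Cohomology along an affine morphism, linearly over the base ring
-/

set_option autoImplicit false

universe u

open CategoryTheory TopologicalSpace Opposite CategoryTheory.Limits Abelian AlgebraicGeometry

namespace Groth.Agent.Lib.Lead.NatPush

variable {X S : Scheme.{u}} (f : X ⟶ S) (M : X.Modules)

/-- Multiplication by a global function on `S` on `f_* M` is the pushforward of the
multiplication by its pullback. -/
lemma pushAb_map_smulAb (r : Coh.Γtop S) :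
    (Coh.pushAb f).map (Coh.smulAb M (f.appTop.hom r)) = Coh.smulAb ((Coh.push f).obj M) r := by
  ext V m
  change (Coh.smulAb M _).hom.app (op ((Opens.map f.base).obj V.unop)) m = _
  rw [Coh.smulAb_app]
  refine Eq.trans ?_ (Coh.smulAb_app ((Coh.push f).obj M) r V m).symm
  have h1 : Coh.resTop X (op ((Opens.map f.base).obj V.unop)) (f.appTop.hom r) =
      (f.app V.unop).hom (Coh.resTop S V r) := by
    have := f.naturality (homOfLE (le_top (a := V.unop))).op
    exact (congrArg (fun k => k.hom r) this).symm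
  rw [h1]
  rfl

variable [IsAffineHom f] [M.IsQuasicoherent] (A : Type u) [CommRing A]
  [X.Over (Spec (CommRingCat.of A))] [S.Over (Spec (CommRingCat.of A))]

/-- **Cohomology along an affine morphism**, as a linear equivalence over the base ring. -/
theorem nonempty_HH_linearEquiv_HH_push
    (hf : f ≫ (S ↘ Spec (CommRingCat.of A)) = X ↘ Spec (CommRingCat.of A)) (i : ℕ) :
    Nonempty (Coh.HH X M i ≃ₗ[A] Coh.HH S ((Coh.push f).obj M) i) := by
  obtain ⟨e, he⟩ := exists_HH_addEquiv_HH_push_nat f M i
  refine ⟨{ e with map_smul' := fun a x => ?_ }⟩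
  have h1 : Coh.toGlobal (X ↘ Spec (CommRingCat.of A)) a =
      f.appTop.hom (Coh.toGlobal (S ↘ Spec (CommRingCat.of A)) a) := by
    rw [← hf]
    rfl
  change e (Sheaf.H.map (Coh.smulAb M (Coh.toGlobal (X ↘ Spec (CommRingCat.of A)) a)) i x) =
    Sheaf.H.map (Coh.smulAb ((Coh.push f).obj M)
      (Coh.toGlobal (S ↘ Spec (CommRingCat.of A)) a)) i (e x)
  rw [he, h1, pushAb_map_smulAb]
  rfl

end Groth.Agent.Lib.Lead.NatPush
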