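import Groth.Agent.Lib.Helper22.ExtCompare
import Groth.Agent.Lib.Lead.Pn.HomologyOfMap

/-!
# Comparing `Ext` groups across a functor by dimension shifting, compatibly with endomorphisms
-/

set_option autoImplicit false
set_option linter.unusedSectionVars false

universe w w' v v' u u'

open CategoryTheory Limits Abelian

namespace Groth.Agent.Lib.Lead.NatPush

open Groth.Agent.Lib.Helper22.ExtCompare

section general

variable {𝒞 : Type u} [Category.{v} 𝒞] [Abelian 𝒞] [HasExt.{w} 𝒞]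

/-- A lift of an endomorphism to the injective-hull sequence. -/
noncomputable def liftSC [EnoughInjectives 𝒞] (F : 𝒞) (φ : F ⟶ F) : injSC F ⟶ injSC F where
  τ₁ := φ
  τ₂ := Injective.factorThru (φ ≫ Injective.ι F) (Injective.ι F)
  τ₃ := cokernel.map _ _ φ (Injective.factorThru (φ ≫ Injective.ι F) (Injective.ι F))
    (by rw [Injective.comp_factorThru])
  comm₁₂ := by
    change φ ≫ Injective.ι F = Injective.ι F ≫ _
    rw [Injective.comp_factorThru]
  comm₂₃ := by
    change _ ≫ cokernel.π _ = cokernel.π _ ≫ _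
    rw [cokernel.π_desc]

@[simp] lemma liftSC_τ₁ [EnoughInjectives 𝒞] (F : 𝒞) (φ : F ⟶ F) : (liftSC F φ).τ₁ = φ := rfl

/-- Naturality of the connecting map. -/
lemma postcomp_extClass_naturality {S : ShortComplex 𝒞} (hS : S.ShortExact) (Ψ : S ⟶ S)
    (P : 𝒞) {n m : ℕ} (h : n + 1 = m) (y : Ext P S.X₃ n) :
    (y.comp (Ext.mk₀ Ψ.τ₃) (add_zero n)).comp hS.extClass h =
      (y.comp hS.extClass h).comp (Ext.mk₀ Ψ.τ₁) (add_zero m) := by
  rw [Ext.comp_assoc_of_second_deg_zero,
    ← ShortComplex.ShortExact.extClass_naturality hS hS Ψ, Ext.comp_assoc_of_third_deg_zero]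

end general

section compare

variable {𝒜 : Type u} [Category.{v} 𝒜] [Abelian 𝒜] [HasExt.{w} 𝒜] [EnoughInjectives 𝒜]
  {ℬ : Type u'} [Category.{v'} ℬ] [Abelian ℬ] [HasExt.{w'} ℬ]
  {Φ : 𝒜 ⥤ ℬ} {P : 𝒜} {P' : ℬ}

/-- Compatibility of an identification of `Ext` groups with endomorphisms. -/
def IsNatAt (Φ : 𝒜 ⥤ ℬ) (P : 𝒜) (P' : ℬ) (F : 𝒜) (n : ℕ)
    (e : Ext P F n ≃+ Ext P' (Φ.obj F) n) : Prop :=
  ∀ (φ : F ⟶ F) (x : Ext P F n),
    e (x.comp (Ext.mk₀ φ) (add_zero n)) = (e x).comp (Ext.mk₀ (Φ.map φ)) (add_zero n)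

theorem exists_nat_ext_addEquiv [Φ.PreservesZeroMorphisms] (d : Deg0Iso Φ P P') (good : 𝒜 → Prop)
    (h1 : ∀ F, good F → ((injSC F).map Φ).ShortExact)
    (h2 : ∀ F, good F → good (injSC F).X₃)
    (h3 : ∀ F, good F → ∀ (n : ℕ) (x : Ext P' (Φ.obj (injSC F).X₂) (n + 1)), x = 0) :
    ∀ (n : ℕ) (F : 𝒜), good F →
      ∃ e : Ext P F n ≃+ Ext P' (Φ.obj F) n, IsNatAt Φ P P' F n e := by
  have hinj : ∀ (F : 𝒜) (n : ℕ) (x : Ext P (injSC F).X₂ (n + 1)), x = 0 :=
    fun F n x => Ext.eq_zero_of_injective x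
  intro n
  induction n using Nat.strong_induction_on with
  | _ n ih =>
    intro F hF
    match n, ih with
    | 0, _ => exact ⟨d.e F, fun φ x => d.nat φ x⟩
    | 1, _ =>
      have hS := injSC_shortExact F
      have hΦS := h1 F hF
      let a : Ext P (injSC F).X₃ 0 →+ Ext P F 1 := hS.extClass.postcomp P (zero_add 1)
      let b : Ext P (injSC F).X₃ 0 →+ Ext P' (Φ.obj F) 1 :=
        (hΦS.extClass.postcomp P' (zero_add 1)).comp (d.e (injSC F).X₃).toAddMonoidHom
      have ha : Function.Surjective a := by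
        intro x
        obtain ⟨y, hy⟩ := Ext.covariant_sequence_exact₁ P hS x (hinj F 0 _) (zero_add 1)
        exact ⟨y, hy⟩
      have hb : Function.Surjective b := by
        intro x
        obtain ⟨y, hy⟩ := Ext.covariant_sequence_exact₁ P' hΦS x (h3 F hF 0 _) (zero_add 1)
        obtain ⟨z, rfl⟩ := (d.e (injSC F).X₃).surjective y
        exact ⟨z, hy⟩
      have hk : ∀ t, a t = 0 ↔ b t = 0 := by
        intro t
        constructor
        · intro ht
          obtain ⟨y, hy⟩ := Ext.covariant_sequence_exact₃ P hS t (zero_add 1) ht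
          change ((d.e (injSC F).X₃) t).comp hΦS.extClass (zero_add 1) = 0
          rw [← hy, d.nat (injSC F).g y]
          change (Ext.comp (Y := ((injSC F).map Φ).X₂) (d.e (injSC F).X₂ y)
            (Ext.mk₀ ((injSC F).map Φ).g) (add_zero 0)).comp hΦS.extClass (zero_add 1) = 0
          rw [Ext.comp_assoc_of_second_deg_zero, hΦS.comp_extClass, Ext.comp_zero]
        · intro ht
          obtain ⟨z, hz⟩ := Ext.covariant_sequence_exact₃ P' hΦS (d.e (injSC F).X₃ t)
            (zero_add 1) ht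
          obtain ⟨y, rfl⟩ := (d.e (injSC F).X₂).surjective z
          have hz' : d.e (injSC F).X₃ (y.comp (Ext.mk₀ (injSC F).g) (add_zero 0)) =
              d.e (injSC F).X₃ t := (d.nat (injSC F).g y).trans hz
          have ht' := (d.e (injSC F).X₃).injective hz'
          change t.comp hS.extClass (zero_add 1) = 0
          rw [← ht', Ext.comp_assoc_of_second_deg_zero, hS.comp_extClass, Ext.comp_zero]
      obtain ⟨θ, hθ⟩ := Groth.Agent.Lib.Lead.Pn.exists_addEquiv_of_surjective_of_ker_eq a b ha hb hk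
      refine ⟨θ, ?_⟩
      intro φ x
      obtain ⟨t, rfl⟩ := ha x
      let Ψ := liftSC F φ
      have e1 : (a t).comp (Ext.mk₀ φ) (add_zero 1) =
          a (t.comp (Ext.mk₀ Ψ.τ₃) (add_zero 0)) :=
        (postcomp_extClass_naturality hS Ψ P (zero_add 1) t).symm
      rw [e1, hθ, hθ]
      change ((d.e (injSC F).X₃) (t.comp (Ext.mk₀ Ψ.τ₃) (add_zero 0))).comp hΦS.extClass
        (zero_add 1) = (((d.e (injSC F).X₃) t).comp hΦS.extClass (zero_add 1)).comp
          (Ext.mk₀ (Φ.map φ)) (add_zero 1)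
      rw [d.nat Ψ.τ₃ t]
      exact postcomp_extClass_naturality hΦS (Φ.mapShortComplex.map Ψ) P' (zero_add 1) _
    | n + 2, ih =>
      have hS := injSC_shortExact F
      have hΦS := h1 F hF
      let e1 := shiftEquiv hS P n (hinj F n) (hinj F (n + 1))
      let e2 := shiftEquiv hΦS P' n (h3 F hF n) (h3 F hF (n + 1))
      obtain ⟨eQ, heQ⟩ := ih (n + 1) (by omega) (injSC F).X₃ (h2 F hF)
      refine ⟨e1.symm.trans (eQ.trans e2), ?_⟩
      intro φ x
      obtain ⟨z, rfl⟩ := e1.surjective x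
      let Ψ := liftSC F φ
      have hz : (e1 z).comp (Ext.mk₀ φ) (add_zero (n + 2)) =
          e1 (z.comp (Ext.mk₀ Ψ.τ₃) (add_zero (n + 1))) :=
        (postcomp_extClass_naturality hS Ψ P (rfl : n + 1 + 1 = n + 2) z).symm
      rw [hz]
      simp only [AddEquiv.trans_apply, AddEquiv.symm_apply_apply]
      rw [heQ Ψ.τ₃ z]
      exact postcomp_extClass_naturality hΦS (Φ.mapShortComplex.map Ψ) P'
        (rfl : n + 1 + 1 = n + 2) (eQ z)

end compare

end Groth.Agent.Lib.Lead.NatPush
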