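import Groth.Agent.Lib.Lead.NatPush.ExtNat
import Groth.Agent.Lib.Helper22.CohTop.Leray
import Groth.Agent.Lib.Helper22.Cech.AffineMorphism

/-!
# Degenerate Leray, compatibly with endomorphisms
-/

set_option autoImplicit false

universe u

open CategoryTheory TopologicalSpace Opposite CategoryTheory.Limits Abelian AlgebraicGeometry

namespace Groth.Agent.Lib.Lead.NatPush

open Groth.Agent.Lib.Helper22 Groth.Agent.Lib.Helper22.CohTop Groth.Agent.Lib.Helper22.ExtCompare

section top

variable {X Y : TopCat.{u}} (f : X ⟶ Y)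

theorem leray_degenerate_nat (F : CohTop.Ab X)
    (h : ∀ q : ℕ, IsZero ((CohTop.Rpush f (q + 1)).obj F)) (p : ℕ) :
    ∃ e : CohTop.H F p ≃+ CohTop.H ((CohTop.push f).obj F) p,
      IsNatAt (CohTop.push f) (constZ X) (constZ Y) F p e := by
  refine exists_nat_ext_addEquiv (deg0Push f)
    (fun F => ∀ q : ℕ, IsZero ((CohTop.Rpush f (q + 1)).obj F)) ?_ ?_ ?_ p F h
  · intro F hF
    exact shortExact_map_of_epi (CohTop.push f) (ExtCompare.injSC_shortExact F)
      ((DimShift.isZero_rightDerived_one_iff (CohTop.push f) (ExtCompare.injSC F)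
        (ExtCompare.injSC_shortExact F)).1 (hF 0))
  · intro F hF q
    exact (DimShift.isZero_rightDerived_succ_succ_iff (CohTop.push f) (ExtCompare.injSC F)
      (ExtCompare.injSC_shortExact F) q).1 (hF (q + 1))
  · intro F _ n x
    have : TopCat.Sheaf.IsFlasque (ExtCompare.injSC F).X₂ := isFlasque_of_injective _
    have : TopCat.Sheaf.IsFlasque ((CohTop.push f).obj (ExtCompare.injSC F).X₂) :=
      TopCat.Sheaf.IsFlasque.pushforward_isFlasque _ f
    exact ext_succ_eq_zero_of_flasque (liftsFlasque_const Y) n _ x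

end top

section scheme

variable {X S : Scheme.{u}} (f : X ⟶ S) [IsAffineHom f] (M : X.Modules) [M.IsQuasicoherent]

/-- Cohomology along an affine morphism, compatibly with endomorphisms of the underlying abelian
sheaf. -/
theorem exists_HH_addEquiv_HH_push_nat (i : ℕ) :
    ∃ e : Coh.HH X M i ≃+ Coh.HH S ((Coh.push f).obj M) i,
      ∀ (φ : Coh.toAb M ⟶ Coh.toAb M) (x : Coh.HH X M i),
        e (Sheaf.H.map φ i x) = Sheaf.H.map ((Coh.pushAb f).map φ) i (e x) := by
  have h0 : ∀ q : ℕ, IsZero ((CohTop.Rpush f.base (q + 1)).obj (Coh.toAb M)) :=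
    fun q => Groth.Agent.Lib.Helper22.Cech.isZero_RpushAb_succ f M q
  obtain ⟨e, he⟩ := leray_degenerate_nat f.base (Coh.toAb M) h0 i
  exact ⟨e, he⟩

end scheme

end Groth.Agent.Lib.Lead.NatPush
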